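import Groth.Agent.Lib.WEtaleH7.AbsFlat
import Mathlib.RingTheory.RingHom.FaithfullyFlat

/-!
Flatness cancellation lemmas.
-/

namespace Groth.Agent.WEtaleH7

open TensorProduct

universe u v w

/-- Flatness passes to the quotient ring through which the map factors. -/
theorem flat_of_comp_surjective {R : Type u} {R' : Type v} {N : Type w} [CommRing R] [CommRing R']
    [CommRing N] (π : R →+* R') (ψ : R' →+* N) (hπ : Function.Surjective π)
    (h : (ψ.comp π).Flat) : ψ.Flat := by
  letI := π.toAlgebra
  letI := ψ.toAlgebra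
  letI := (ψ.comp π).toAlgebra
  haveI : IsScalarTower R R' N := IsScalarTower.of_algebraMap_eq fun _ => rfl
  haveI h0 : Module.Flat R N := h
  have hs : ∀ z : R' ⊗[R] R', ∃ x, z = x ⊗ₜ (1 : R') := fun z => by
    induction z with
    | zero => exact ⟨0, by simp⟩
    | add a b ha hb =>
      obtain ⟨x, rfl⟩ := ha
      obtain ⟨y, rfl⟩ := hb
      exact ⟨x + y, (add_tmul x y 1).symm⟩
    | tmul a b =>
      obtain ⟨r, rfl⟩ := hπ b
      exact ⟨r • a, by rw [smul_tmul, ← Algebra.algebraMap_eq_smul_one]; rfl⟩
  have hflat : (Algebra.TensorProduct.lmul' R (S := R')).Flat := by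
    refine RingHom.Flat.of_bijective ⟨fun z z' hzz' => ?_, fun b => ⟨b ⊗ₜ 1, by simp⟩⟩
    obtain ⟨x, rfl⟩ := hs z
    obtain ⟨y, rfl⟩ := hs z'
    exact congrArg (fun t => t ⊗ₜ[R] (1 : R')) (show x = y by simpa using hzz')
  exact flat_of_flat_lmul R N hflat

/-- Descent of flatness along a faithfully flat second map. -/
theorem flat_of_comp_faithfullyFlat {R : Type u} {S : Type u} {T : Type u} [CommRing R]
    [CommRing S] [CommRing T] (f : R →+* S) (g : S →+* T) (hg : g.FaithfullyFlat)
    (h : (g.comp f).Flat) : f.Flat := by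
  letI := f.toAlgebra
  letI := g.toAlgebra
  letI := (g.comp f).toAlgebra
  haveI : IsScalarTower R S T := IsScalarTower.of_algebraMap_eq fun _ => rfl
  haveI h0 : Module.Flat R T := h
  haveI h1 : Module.FaithfullyFlat S T := hg
  show Module.Flat R S
  rw [Module.Flat.iff_lTensor_preserves_injective_linearMap]
  intro N P _ _ _ _ a ha
  let G : S ⊗[R] N →ₗ[S] S ⊗[R] P := a.baseChange S
  suffices Function.Injective G by exact this
  rw [← Module.FaithfullyFlat.lTensor_injective_iff_injective S T]
  let eN := TensorProduct.AlgebraTensorModule.cancelBaseChange R S S T N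
  let eP := TensorProduct.AlgebraTensorModule.cancelBaseChange R S S T P
  have hcomm : ∀ z, eP (G.lTensor T z) = a.lTensor T (eN z) := by
    intro z
    induction z with
    | zero => simp
    | add x y hx hy => simp [map_add, hx, hy]
    | tmul c w =>
      induction w with
      | zero => simp
      | add x y hx hy =>
        simp only [tmul_add, map_add, hx, hy]
      | tmul b n => simp [eP, eN, G]
  intro x y hxy
  apply eN.injective
  refine Module.Flat.lTensor_preserves_injective_linearMap (M := T) a ha ?_
  rw [← hcomm, ← hcomm, hxy]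

end Groth.Agent.WEtaleH7
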