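import Mathlib.RingTheory.Etale.Weakly
import Mathlib.RingTheory.Ideal.Pure
import Mathlib.RingTheory.Flat.FaithfullyFlat.Basic
import Mathlib.RingTheory.TensorProduct.Maps
import Mathlib.RingTheory.Localization.AtPrime.Basic
import Mathlib.RingTheory.Nilpotent.Defs

/-!
Absolutely flat (von Neumann regular) rings and weakly étale algebras.
-/

namespace Groth.Agent.WEtaleH7

open TensorProduct

universe u v

/-- von Neumann regularity. -/
def IsVNR (A : Type u) [CommRing A] : Prop := ∀ a : A, ∃ t : A, a * a * t = a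

section VNR

variable {A : Type u} [CommRing A]

theorem IsVNR.of_quotient_flat (h : ∀ I : Ideal A, Module.Flat A (A ⧸ I)) : IsVNR A := by
  intro a
  haveI := h (Ideal.span {a})
  obtain ⟨y, hy, hay⟩ :=
    Ideal.exists_eq_mul_of_pure (I := Ideal.span {a}) (Ideal.mem_span_singleton_self a)
  obtain ⟨t, rfl⟩ := Ideal.mem_span_singleton'.1 hy
  exact ⟨t, by rw [mul_assoc, mul_comm a t, ← hay]⟩

theorem IsVNR.of_forall_flat
    (h : ∀ (M : Type u) [AddCommGroup M] [Module A M], Module.Flat A M) : IsVNR A :=
  .of_quotient_flat fun _ => h _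

theorem IsVNR.isReduced (h : IsVNR A) : IsReduced A := by
  refine ⟨fun a ⟨n, hn⟩ => ?_⟩
  obtain ⟨t, ht⟩ := h a
  have key : ∀ k, a = a * (a * t) ^ k := by
    intro k
    induction k with
    | zero => simp
    | succ k ih =>
      rw [pow_succ]
      calc a = a * a * t := ht.symm
        _ = a * (a * t) ^ k * (a * t) := by rw [← ih]; ring
        _ = a * ((a * t) ^ k * (a * t)) := by ring
  rw [key n, mul_pow, hn, zero_mul, mul_zero]

theorem IsVNR.pi {ι : Type*} {K : ι → Type*} [∀ i, Field (K i)] : IsVNR (∀ i, K i) := by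
  intro a
  refine ⟨fun i => (a i)⁻¹, funext fun i => ?_⟩
  show a i * a i * (a i)⁻¹ = a i
  by_cases h : a i = 0
  · simp [h]
  · rw [mul_assoc, mul_inv_cancel₀ h, mul_one]

theorem IsVNR.quotient (h : IsVNR A) (I : Ideal A) : IsVNR (A ⧸ I) := by
  intro x
  obtain ⟨a, rfl⟩ := Ideal.Quotient.mk_surjective x
  obtain ⟨t, ht⟩ := h a
  exact ⟨Ideal.Quotient.mk I t, by rw [← map_mul, ← map_mul, ht]⟩

theorem IsVNR.isMaximal_of_isPrime (h : IsVNR A) (p : Ideal A) [p.IsPrime] : p.IsMaximal := by
  refine Ideal.Quotient.maximal_of_isField p ⟨exists_pair_ne _, mul_comm, fun {a} ha => ?_⟩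
  obtain ⟨t, ht⟩ := h.quotient p a
  exact ⟨t, mul_left_cancel₀ ha (by rw [← mul_assoc, ht, mul_one])⟩

/-- In a von Neumann regular ring a finitely generated ideal is generated by an idempotent. -/
theorem IsVNR.exists_idempotent (h : IsVNR A) {I : Ideal A} (hI : I.FG) :
    ∃ e ∈ I, ∀ x ∈ I, e * x = x := by
  obtain ⟨s, rfl⟩ := hI
  classical
  induction s using Finset.induction with
  | empty => exact ⟨0, by simp, fun x hx => by simp_all⟩
  | insert a s _ ih =>
    obtain ⟨e, he, hex⟩ := ih
    obtain ⟨t, ht⟩ := h a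
    have hf : a * t ∈ Ideal.span {a} := Ideal.mul_mem_right _ _ (Ideal.mem_span_singleton_self a)
    rw [Finset.coe_insert, Ideal.span_insert]
    refine ⟨e + a * t - e * (a * t), Ideal.sub_mem _
      (Ideal.add_mem _ (Ideal.mem_sup_right he) (Ideal.mem_sup_left hf))
      (Ideal.mul_mem_right _ _ (Ideal.mem_sup_right he)), fun x hx => ?_⟩
    obtain ⟨y, hy, z, hz, rfl⟩ := Submodule.mem_sup.1 hx
    obtain ⟨c, rfl⟩ := Ideal.mem_span_singleton'.1 hy
    linear_combination c * ht + (1 - a * t) * hex z hz - e * c * ht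

theorem IsVNR.flat (h : IsVNR A) (M : Type v) [AddCommGroup M] [Module A M] : Module.Flat A M := by
  rw [Module.Flat.iff_rTensor_injective]
  intro I hI
  obtain ⟨e, he, hex⟩ := h.exists_idempotent hI
  let r : A →ₗ[A] I := LinearMap.toSpanSingleton A I ⟨e, he⟩
  have hr : r ∘ₗ I.subtype = LinearMap.id :=
    LinearMap.ext fun x => Subtype.ext (by simp [r, mul_comm, hex x x.2])
  refine Function.LeftInverse.injective (g := r.rTensor M) fun z => ?_
  rw [← LinearMap.comp_apply, ← LinearMap.rTensor_comp, hr, LinearMap.rTensor_id]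
  rfl

theorem isVNR_of_field (K : Type u) [Field K] : IsVNR K := fun a => by
  refine ⟨a⁻¹, ?_⟩
  by_cases h : a = 0
  · simp [h]
  · rw [mul_assoc, mul_inv_cancel₀ h, mul_one]

end VNR

section Lmul

variable (A : Type*) {B : Type*} (M N : Type*) [CommRing A] [CommRing B] [Algebra A B]
  [AddCommGroup M] [Module A M] [Module B M] [IsScalarTower A B M]
  [AddCommGroup N] [Module A N] [Module B N] [IsScalarTower A B N]

/-- The action of `B ⊗[A] B` on `M ⊗[A] N`. -/
noncomputable def act : B ⊗[A] B →ₐ[A] Module.End A (M ⊗[A] N) :=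
  Algebra.TensorProduct.lift ((Module.End.rTensorAlgHom A M N).comp (Algebra.lsmul A A M))
    ((Module.End.lTensorAlgHom A N M).comp (Algebra.lsmul A A N))
    (fun _ _ => TensorProduct.ext' fun _ _ => rfl)

theorem act_tmul (a b : B) (m : M) (n : N) :
    act A M N (a ⊗ₜ b) (m ⊗ₜ n) = (a • m) ⊗ₜ (b • n) := rfl

theorem act_natural {M' : Type*} [AddCommGroup M'] [Module A M'] [Module B M']
    [IsScalarTower A B M'] (f : M →ₗ[B] M') (j : B ⊗[A] B) (z : M ⊗[A] N) :
    (f.restrictScalars A).rTensor N (act A M N j z) =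
      act A M' N j ((f.restrictScalars A).rTensor N z) := by
  induction j with
  | zero => simp
  | add a b ha hb => simp [map_add, LinearMap.add_apply, ha, hb]
  | tmul a b =>
    induction z with
    | zero => simp
    | add x y hx hy => simp [map_add, hx, hy]
    | tmul m n =>
      simp only [act_tmul, LinearMap.rTensor_tmul, LinearMap.coe_restrictScalars, map_smul]

/-- The natural map `M ⊗[A] N → M ⊗[B] N`. -/
noncomputable def toB : M ⊗[A] N →ₗ[A] M ⊗[B] N :=
  TensorProduct.lift (LinearMap.mk₂ A (fun m n => m ⊗ₜ[B] n)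
    (fun _ _ _ => add_tmul _ _ _) (fun c m n => (smul_tmul' c m n).symm)
    (fun _ _ _ => tmul_add _ _ _) (fun c m n => tmul_smul c m n))

theorem toB_tmul (m : M) (n : N) : toB A (B := B) M N (m ⊗ₜ n) = m ⊗ₜ n := rfl

theorem toB_surjective : Function.Surjective (toB A (B := B) M N) := fun z => by
  induction z with
  | zero => exact ⟨0, map_zero _⟩
  | add x y hx hy =>
    obtain ⟨x, rfl⟩ := hx
    obtain ⟨y, rfl⟩ := hy
    exact ⟨x + y, map_add _ _ _⟩
  | tmul m n => exact ⟨m ⊗ₜ n, rfl⟩

theorem toB_act (j : B ⊗[A] B) (z : M ⊗[A] N) :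
    toB A (B := B) M N (act A M N j z) = Algebra.TensorProduct.lmul' A j • toB A (B := B) M N z := by
  induction j with
  | zero => simp
  | add a b ha hb => simp [map_add, LinearMap.add_apply, ha, hb, add_smul]
  | tmul a b =>
    induction z with
    | zero => simp
    | add x y hx hy => simp [map_add, hx, hy]
    | tmul m n =>
      simp only [act_tmul, toB_tmul, Algebra.TensorProduct.lmul'_apply_tmul]
      rw [mul_comm, mul_smul, smul_tmul', ← tmul_smul]

/-- The span of the translates by the multiplication kernel. -/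
noncomputable def relations : Submodule A (M ⊗[A] N) :=
  Submodule.span A
    {y | ∃ j ∈ RingHom.ker (Algebra.TensorProduct.lmul' A (S := B)), ∃ z, y = act A M N j z}

theorem toB_eq_zero_iff (y : M ⊗[A] N) :
    toB A (B := B) M N y = 0 ↔ y ∈ relations A (B := B) M N := by
  constructor
  · intro hy
    let b : M →+ N →+ (M ⊗[A] N) ⧸ relations A (B := B) M N :=
      AddMonoidHom.mk' (fun m => AddMonoidHom.mk' (fun n => Submodule.Quotient.mk (m ⊗ₜ n))
          fun n n' => by rw [tmul_add, Submodule.Quotient.mk_add])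
        fun m m' => by
          ext n
          simp [add_tmul]
    let g : M ⊗[B] N →+ (M ⊗[A] N) ⧸ relations A (B := B) M N :=
      TensorProduct.liftAddHom b fun r m n => by
        refine (Submodule.Quotient.eq _).2 (Submodule.subset_span
          ⟨(r ⊗ₜ 1 - 1 ⊗ₜ r), by simp, m ⊗ₜ n, ?_⟩)
        simp [map_sub, LinearMap.sub_apply, act_tmul]
    have hg : ∀ z, g (toB A (B := B) M N z) = Submodule.Quotient.mk z := by
      intro z
      induction z with
      | zero => simp
      | add x y hx hy => simp [map_add, hx, hy]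
      | tmul m n => rfl
    have := hg y
    rw [hy, map_zero] at this
    exact (Submodule.Quotient.mk_eq_zero _).1 this.symm
  · intro hy
    induction hy using Submodule.span_induction with
    | mem y hy =>
      obtain ⟨j, hj, z, rfl⟩ := hy
      rw [toB_act, show Algebra.TensorProduct.lmul' A j = (0 : B) from hj, zero_smul]
    | zero => simp
    | add x y _ _ hx hy => simp [hx, hy]
    | smul c x _ hx => simp [hx]

theorem exists_fix {M N : Type*} [AddCommGroup M] [Module A M] [Module B M] [IsScalarTower A B M]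
    [AddCommGroup N] [Module A N] [Module B N] [IsScalarTower A B N]
    (h : (Algebra.TensorProduct.lmul' A (S := B)).Flat)
    {y : M ⊗[A] N} (hy : y ∈ relations A (B := B) M N) :
    ∃ e ∈ RingHom.ker (Algebra.TensorProduct.lmul' A (S := B)), act A M N e y = y := by
  letI := (Algebra.TensorProduct.lmul' A (S := B)).toRingHom.toAlgebra
  haveI hflat : Module.Flat (B ⊗[A] B) B := h
  haveI : (RingHom.ker (Algebra.TensorProduct.lmul' A (S := B))).Pure :=
    Module.Flat.of_linearEquiv (M := B)
      (Ideal.quotientKerAlgEquivOfSurjective (f := Algebra.ofId (B ⊗[A] B) B)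
        (fun b => ⟨b ⊗ₜ 1, by
          show Algebra.TensorProduct.lmul' A (b ⊗ₜ[A] (1 : B)) = b
          simp⟩)).toLinearEquiv
  induction hy using Submodule.span_induction with
  | mem y hy =>
    obtain ⟨j, hj, z, rfl⟩ := hy
    obtain ⟨e, he, hje⟩ := Ideal.exists_eq_mul_of_pure hj
    exact ⟨e, he, by rw [← Module.End.mul_apply, ← map_mul, mul_comm, ← hje]⟩
  | zero => exact ⟨0, Ideal.zero_mem _, by simp⟩
  | add x y _ _ hx hy =>
    obtain ⟨e, he, hex⟩ := hx
    obtain ⟨f, hf, hfy⟩ := hy
    refine ⟨e + f - e * f, Ideal.sub_mem _ (Ideal.add_mem _ he hf) (Ideal.mul_mem_right _ _ he), ?_⟩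
    have h1 : act A M N (e * f) x = act A M N f x := by
      rw [mul_comm, map_mul, Module.End.mul_apply, hex]
    have h2 : act A M N (e * f) y = act A M N e y := by
      rw [map_mul, Module.End.mul_apply, hfy]
    simp only [map_sub, map_add, LinearMap.sub_apply, LinearMap.add_apply, hex, hfy, h1, h2]
    abel
  | smul c x _ hx =>
    obtain ⟨e, he, hex⟩ := hx
    exact ⟨e, he, by rw [map_smul, hex]⟩

/-- If multiplication `B ⊗[A] B → B` is flat, an `A`-flat `B`-module is `B`-flat. -/
theorem flat_of_flat_lmul (h : (Algebra.TensorProduct.lmul' A (S := B)).Flat) [Module.Flat A N] :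
    Module.Flat B N := by
  rw [Module.Flat.iff_rTensor_injective]
  intro I _
  rw [injective_iff_map_eq_zero]
  intro z hz
  obtain ⟨w, rfl⟩ := toB_surjective A (B := B) I N z
  have hnat : ∀ x : I ⊗[A] N, toB A (B := B) B N ((I.subtype.restrictScalars A).rTensor N x) =
      I.subtype.rTensor N (toB A (B := B) I N x) := by
    intro x
    induction x with
    | zero => simp
    | add x y hx hy => simp [map_add, hx, hy]
    | tmul m n => rfl
  rw [← hnat] at hz
  obtain ⟨e, he, hew⟩ := exists_fix A h ((toB_eq_zero_iff A B N _).1 hz)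
  rw [← act_natural A] at hew
  have hinj : Function.Injective ((I.subtype.restrictScalars A).rTensor N) :=
    Module.Flat.rTensor_preserves_injective_linearMap _ I.injective_subtype
  rw [← hinj hew]
  exact (toB_eq_zero_iff A I N _).2 (Submodule.subset_span ⟨e, he, w, rfl⟩)

end Lmul

/-- Weakly étale algebras over absolutely flat rings are absolutely flat. -/
theorem isVNR_of_weaklyEtale (A B : Type u) [CommRing A] [CommRing B] [Algebra A B]
    [Algebra.WeaklyEtale A B] (hA : IsVNR A) : IsVNR B :=
  .of_quotient_flat fun _ =>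
    haveI := hA.flat (A := A)
    flat_of_flat_lmul A _ (Algebra.WeaklyEtale.flat_lmul' A B)

end Groth.Agent.WEtaleH7
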