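import Groth.Agent.Lib.WEtaleH7.Field
import Groth.Prelude.Def_PBC
import Mathlib.RingTheory.Flat.EquationalCriterion
import Mathlib.RingTheory.Smooth.Fiber
import Mathlib.Algebra.Category.Ring.FilteredColimits
import Mathlib.CategoryTheory.Limits.Preserves.Over
import Mathlib.CategoryTheory.Limits.ConcreteCategory.Basic

/-!
# Ind-etale algebras are weakly etale
-/

universe u

open CategoryTheory CategoryTheory.Limits TensorProduct

namespace Groth.Agent.WEtaleH7

variable {A B : Type u} [CommRing A] [CommRing B] [Algebra A B]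

/-- An algebra exhausted by a directed system of weakly etale algebras is weakly etale. -/
theorem weaklyEtale_of_exhausted {J : Type u} [SmallCategory J] [IsFiltered J]
    (C : J → Type u) [∀ j, CommRing (C j)] [∀ j, Algebra A (C j)] [∀ j, Algebra.WeaklyEtale A (C j)]
    (φ : ∀ j, C j →ₐ[A] B) (t : ∀ {i j : J}, (i ⟶ j) → (C i →ₐ[A] C j))
    (ht : ∀ {i j : J} (f : i ⟶ j), (φ j).comp (t f) = φ i)
    (hsurj : ∀ x, ∃ j y, φ j y = x)
    (hinj : ∀ i (x y : C i), φ i x = φ i y → ∃ (j : J) (f : i ⟶ j), t f x = t f y) :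
    Algebra.WeaklyEtale A B := by
  classical
  have ht' : ∀ {i j : J} (f : i ⟶ j) (x : C i), φ j (t f x) = φ i x := fun f x =>
    DFunLike.congr_fun (ht f) x
  have lift : ∀ {n : ℕ} (x : Fin n → B), ∃ (j : J) (y : Fin n → C j), ∀ i, φ j (y i) = x i := by
    intro n x
    choose j y hy using fun i => hsurj (x i)
    obtain ⟨k, hk⟩ := IsFiltered.sup_objs_exists (Finset.univ.image j)
    have f : ∀ i, j i ⟶ k := fun i =>
      (hk (Finset.mem_image_of_mem j (Finset.mem_univ i))).some
    exact ⟨k, fun i => t (f i) (y i), fun i => (ht' _ _).trans (hy i)⟩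
  have hflat : Module.Flat A B := by
    refine Module.Flat.of_forall_isTrivialRelation fun {l} {f} {x} hfx => ?_
    obtain ⟨j, y, hy⟩ := lift x
    obtain ⟨k, g, hg⟩ := hinj j (∑ i, f i • y i) 0 (by
      rw [map_sum, map_zero]
      simpa [map_smul, hy] using hfx)
    rw [map_sum, map_zero] at hg
    simp only [map_smul] at hg
    obtain ⟨m, a, z, hz, ha⟩ := Module.Flat.isTrivialRelation_of_sum_smul_eq_zero hg
    refine ⟨m, a, fun s => φ k (z s), fun i => ?_, ha⟩
    have hz' : t g (y i) = ∑ s, a i s • z s := hz i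
    rw [← hy i, ← ht' g (y i), hz', map_sum]
    simp only [map_smul]
  refine { flat := hflat, flat_lmul' := lmul_flat_of_pure ?_ }
  refine Ideal.Pure.of_inf_eq_mul _ fun K _ => le_antisymm ?_ Ideal.mul_le_inf
  rintro x ⟨hxI, hxK⟩
  let ψ : ∀ j, C j ⊗[A] C j →ₐ[A] B ⊗[A] B := fun j => Algebra.TensorProduct.map (φ j) (φ j)
  let T : ∀ {i j : J}, (i ⟶ j) → (C i ⊗[A] C i →ₐ[A] C j ⊗[A] C j) :=
    fun f => Algebra.TensorProduct.map (t f) (t f)
  have hT : ∀ {i j : J} (f : i ⟶ j) (z : C i ⊗[A] C i), ψ j (T f z) = ψ i z := by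
    intro i j f z
    refine DFunLike.congr_fun (f := (ψ j).comp (T f)) (g := ψ i) ?_ z
    ext w <;> simp [ψ, T, ht']
  have hψ : ∀ j (z : C j ⊗[A] C j),
      Algebra.TensorProduct.lmul' A (ψ j z) = φ j (Algebra.TensorProduct.lmul' A z) := by
    intro j z
    refine DFunLike.congr_fun (f := (Algebra.TensorProduct.lmul' A).comp (ψ j))
      (g := (φ j).comp (Algebra.TensorProduct.lmul' A)) ?_ z
    ext w <;> simp [ψ]
  obtain ⟨j, z, hz⟩ : ∃ j z, ψ j z = x := by
    clear hxI hxK
    induction x with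
    | zero => exact ⟨(IsFiltered.nonempty : Nonempty J).some, 0, map_zero _⟩
    | tmul a b =>
      obtain ⟨j, y, hy⟩ := lift ![a, b]
      exact ⟨j, y 0 ⊗ₜ y 1, by simp [ψ, hy]⟩
    | add a b ha hb =>
      obtain ⟨i, z, rfl⟩ := ha
      obtain ⟨j, w, rfl⟩ := hb
      exact ⟨IsFiltered.max i j, T (IsFiltered.leftToMax i j) z + T (IsFiltered.rightToMax i j) w,
        by rw [map_add, hT, hT]⟩
  have h0 : φ j (Algebra.TensorProduct.lmul' A z) = φ j 0 := by
    rw [map_zero, ← hψ, hz]; exact hxI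
  obtain ⟨k, g, hg⟩ := hinj j _ _ h0
  have hzero : Algebra.TensorProduct.lmul' A (T g z) = 0 := by
    rw [map_zero] at hg
    rw [← hg]
    refine DFunLike.congr_fun (f := (Algebra.TensorProduct.lmul' A).comp (T g))
      (g := (t g).comp (Algebra.TensorProduct.lmul' A)) ?_ z
    ext w <;> simp [T]
  haveI := pure_ker_of_lmul_flat (Algebra.WeaklyEtale.flat_lmul' A (C k))
  obtain ⟨e, he, hze⟩ := Ideal.exists_eq_mul_of_pure
    (I := RingHom.ker (Algebra.TensorProduct.lmul' A (S := C k))) (x := T g z) hzero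
  have hx : x = ψ k e * x := by
    rw [← hz, ← hT g, ← map_mul, mul_comm, ← hze]
  rw [hx]
  refine Ideal.mul_mem_mul ?_ hxK
  show Algebra.TensorProduct.lmul' A (ψ k e) = 0
  rw [hψ, show Algebra.TensorProduct.lmul' A e = 0 from he, map_zero]

/-- Ind-etale algebras are weakly etale. -/
theorem weaklyEtale_of_isIndEtale (h : EtPBC.IsIndEtale A B) : Algebra.WeaklyEtale A B := by
  obtain ⟨J, _, _, D, c, hc, hD, ⟨e⟩⟩ := h
  letI : ∀ j, Algebra A (D.obj j).right := fun j => (D.obj j).hom.hom.toAlgebra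
  haveI : ∀ j, Algebra.Etale A (D.obj j).right := hD
  haveI hwe : ∀ j, Algebra.WeaklyEtale A (D.obj j).right := fun j => inferInstance
  refine weaklyEtale_of_exhausted (fun j => ((D.obj j).right : Type u))
    (fun j => { (c.ι.app j ≫ e.hom).right.hom with
      commutes' := fun r => (ConcreteCategory.congr_hom (Under.w (c.ι.app j ≫ e.hom)) r :) })
    (fun {i k} f => { (D.map f).right.hom with
      commutes' := fun r => (ConcreteCategory.congr_hom (Under.w (D.map f)) r :) })
    ?_ ?_ ?_
  · intro i k f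
    refine AlgHom.ext fun x => ?_
    exact (congrArg (fun g : D.obj i ⟶ c.pt => e.hom.right.hom (g.right.hom x)) (c.w f) :)
  · intro x
    obtain ⟨j, y, hy⟩ := Concrete.isColimit_exists_rep (D ⋙ Under.forget _)
      (isColimitOfPreserves (Under.forget _) hc) (e.inv.right.hom x)
    refine ⟨j, y, ?_⟩
    show e.hom.right.hom ((c.ι.app j).right.hom y) = x
    rw [show (c.ι.app j).right.hom y = e.inv.right.hom x from hy]
    exact (congrArg (fun f : Under.mk (CommRingCat.ofHom (algebraMap A B)) ⟶ _ => f.right.hom x) e.inv_hom_id :)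
  · intro i x y hxy
    have h1 : (c.ι.app i).right.hom x = (c.ι.app i).right.hom y := by
      have h2 := congrArg e.inv.right.hom hxy
      have hid : ∀ w, e.inv.right.hom (e.hom.right.hom w) = w := fun w =>
        (congrArg (fun f : c.pt ⟶ _ => f.right.hom w) e.hom_inv_id :)
      exact (hid _).symm.trans (h2.trans (hid _))
    obtain ⟨k, f, g, hfg⟩ := (Concrete.isColimit_rep_eq_iff_exists _
      (isColimitOfPreserves (Under.forget _) hc) x y).1 h1
    refine ⟨IsFiltered.coeq f g, f ≫ IsFiltered.coeqHom f g, ?_⟩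
    show (D.map _).right.hom x = (D.map _).right.hom y
    conv_rhs => rw [IsFiltered.coeq_condition f g]
    rw [D.map_comp, D.map_comp]
    exact congrArg (D.map (IsFiltered.coeqHom f g)).right.hom hfg

end Groth.Agent.WEtaleH7
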