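import Groth.Agent.Lib.WEtaleH7.AbsFlat
import Mathlib.RingTheory.Unramified.Field
import Mathlib.RingTheory.Ideal.Cotangent
import Mathlib.RingTheory.Kaehler.Basic
import Mathlib.FieldTheory.Separable
import Mathlib.FieldTheory.IntermediateField.Adjoin.Algebra
import Mathlib.Algebra.Polynomial.Identities
import Mathlib.LinearAlgebra.Basis.VectorSpace

/-!
Weakly étale algebras over fields: every element is annihilated by a separable polynomial,
and conversely.
-/

namespace Groth.Agent.WEtaleH7

open TensorProduct Polynomial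

universe u v w

section General

variable {A : Type u} {B : Type v} [CommRing A] [CommRing B] [Algebra A B]

theorem lmul'_surjective : Function.Surjective (Algebra.TensorProduct.lmul' A (S := B)) :=
  fun b => ⟨b ⊗ₜ 1, by simp⟩

theorem pure_ker_of_lmul_flat (h : (Algebra.TensorProduct.lmul' A (S := B)).Flat) :
    (RingHom.ker (Algebra.TensorProduct.lmul' A (S := B))).Pure := by
  letI := (Algebra.TensorProduct.lmul' A (S := B)).toRingHom.toAlgebra
  haveI hflat : Module.Flat (B ⊗[A] B) B := h
  exact Module.Flat.of_linearEquiv (M := B)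
    (Ideal.quotientKerAlgEquivOfSurjective (f := Algebra.ofId (B ⊗[A] B) B)
      lmul'_surjective).toLinearEquiv

theorem lmul_flat_of_pure (h : (RingHom.ker (Algebra.TensorProduct.lmul' A (S := B))).Pure) :
    (Algebra.TensorProduct.lmul' A (S := B)).Flat := by
  letI := (Algebra.TensorProduct.lmul' A (S := B)).toRingHom.toAlgebra
  show Module.Flat (B ⊗[A] B) B
  exact (Module.Flat.equiv_iff (Ideal.quotientKerAlgEquivOfSurjective
    (f := Algebra.ofId (B ⊗[A] B) B) lmul'_surjective).toLinearEquiv).1 h

/-- Weakly étale algebras are formally unramified. -/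
theorem formallyUnramified_of_weaklyEtale [Algebra.WeaklyEtale A B] :
    Algebra.FormallyUnramified A B := by
  haveI := pure_ker_of_lmul_flat (Algebra.WeaklyEtale.flat_lmul' A B)
  exact ⟨(Ideal.cotangent_subsingleton_iff _).2 (Ideal.isIdempotentElem_of_pure _)⟩

/-- A flat surjective algebra is weakly étale. -/
theorem weaklyEtale_of_surjective (h : Function.Surjective (algebraMap A B)) [Module.Flat A B] :
    Algebra.WeaklyEtale A B := by
  have hs : ∀ z : B ⊗[A] B, ∃ x, z = x ⊗ₜ 1 := fun z => by
    induction z with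
    | zero => exact ⟨0, by simp⟩
    | add a b ha hb =>
      obtain ⟨x, rfl⟩ := ha
      obtain ⟨y, rfl⟩ := hb
      exact ⟨x + y, (add_tmul x y 1).symm⟩
    | tmul a b =>
      obtain ⟨r, rfl⟩ := h b
      exact ⟨r • a, by rw [smul_tmul, Algebra.algebraMap_eq_smul_one]⟩
  refine { flat_lmul' := RingHom.Flat.of_bijective ⟨fun z z' hzz' => ?_, lmul'_surjective⟩ }
  obtain ⟨x, rfl⟩ := hs z
  obtain ⟨y, rfl⟩ := hs z'
  simpa using congrArg (fun t => t ⊗ₜ[A] (1 : B)) (show x = y by simpa using hzz')

/-- Descent of von Neumann regularity along a map with a linear retraction. -/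
theorem IsVNR.of_retraction (hB : IsVNR B) (r : B →ₗ[A] A) (hr : r 1 = 1) : IsVNR A := by
  intro a
  obtain ⟨t, ht⟩ := hB (algebraMap A B a)
  refine ⟨r t, ?_⟩
  have := congrArg r ht
  rw [← map_mul, ← Algebra.smul_def, map_smul, Algebra.algebraMap_eq_smul_one, map_smul, hr] at this
  simpa using this

end General

section Field

variable {K : Type u} [Field K]

theorem vnr_of_weaklyEtale_field {B : Type v} [CommRing B] [Algebra K B] [Algebra.WeaklyEtale K B] :
    IsVNR B :=
  .of_quotient_flat fun _ =>
    haveI := (isVNR_of_field K).flat (A := K)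
    flat_of_flat_lmul K _ (Algebra.WeaklyEtale.flat_lmul' K B)

theorem weaklyEtale_quotient {B : Type v} [CommRing B] [Algebra K B] [Algebra.WeaklyEtale K B]
    (I : Ideal B) : Algebra.WeaklyEtale K (B ⧸ I) := by
  haveI := (vnr_of_weaklyEtale_field (K := K) (B := B)).flat (B ⧸ I)
  haveI : Algebra.WeaklyEtale B (B ⧸ I) := weaklyEtale_of_surjective Ideal.Quotient.mk_surjective
  exact Algebra.WeaklyEtale.trans K B (B ⧸ I)

/-- The elements of a field which is weakly étale over `K` are separable over `K`. -/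
theorem isSeparable_of_weaklyEtale_field {L : Type v} [Field L] [Algebra K L]
    [Algebra.WeaklyEtale K L] (x : L) : IsSeparable K x := by
  let F := IntermediateField.adjoin K ({x} : Set L)
  obtain ⟨π, hπ⟩ := LinearMap.exists_leftInverse_of_injective (Algebra.linearMap F L)
    (LinearMap.ker_eq_bot.2 (algebraMap F L).injective)
  letI algFL : Algebra (F ⊗[K] F) (L ⊗[K] L) :=
    (Algebra.TensorProduct.map (IsScalarTower.toAlgHom K F L) (IsScalarTower.toAlgHom K F L)).toRingHom.toAlgebra
  have hLL : IsVNR (L ⊗[K] L) := by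
    haveI : Algebra.WeaklyEtale K (L ⊗[K] L) := Algebra.WeaklyEtale.trans K L (L ⊗[K] L)
    exact vnr_of_weaklyEtale_field (K := K)
  let r₀ : L ⊗[K] L →ₗ[K] F ⊗[K] F :=
    TensorProduct.map (π.restrictScalars K) (π.restrictScalars K)
  have hr₀ : ∀ (a : F ⊗[K] F) (t : L ⊗[K] L), r₀ (a • t) = a • r₀ t := by
    intro a t
    rw [Algebra.smul_def, smul_eq_mul]
    induction a with
    | zero => simp
    | add a b ha hb => simp [add_mul, map_add, ha, hb]
    | tmul a b =>
      induction t with
      | zero => simp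
      | add p q hp hq => simp [mul_add, map_add, hp, hq]
      | tmul p q =>
        show r₀ ((algebraMap F L a ⊗ₜ[K] algebraMap F L b) * (p ⊗ₜ q)) = _
        rw [Algebra.TensorProduct.tmul_mul_tmul]
        show π (algebraMap F L a * p) ⊗ₜ[K] π (algebraMap F L b * q) = _
        rw [← Algebra.smul_def, ← Algebra.smul_def, map_smul, map_smul]
        exact (Algebra.TensorProduct.tmul_mul_tmul ..).symm
  have hπ1 : π 1 = 1 := by simpa using LinearMap.congr_fun hπ 1
  have hFF : IsVNR (F ⊗[K] F) :=
    hLL.of_retraction { r₀ with map_smul' := hr₀ } (by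
      show π 1 ⊗ₜ[K] π 1 = _
      rw [hπ1]
      rfl)
  haveI : Algebra.WeaklyEtale K F := by
    haveI := (isVNR_of_field K).flat (A := K) F
    letI := (Algebra.TensorProduct.lmul' K (S := F)).toRingHom.toAlgebra
    exact { flat_lmul' := (hFF.flat F : Module.Flat (F ⊗[K] F) F) }
  haveI := formallyUnramified_of_weaklyEtale (A := K) (B := F)
  haveI : Algebra.EssFiniteType K F := by
    open scoped IntermediateField.algebraAdjoinAdjoin in
    have : Algebra.FiniteType K (Algebra.adjoin K ({x} : Set L)) :=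
      .adjoin_of_finite (Set.finite_singleton x)
    open scoped IntermediateField.algebraAdjoinAdjoin in
    have : Algebra.EssFiniteType (Algebra.adjoin K ({x} : Set L)) F :=
      .of_isLocalization _ (nonZeroDivisors _)
    open scoped IntermediateField.algebraAdjoinAdjoin in
    exact .comp _ (Algebra.adjoin K ({x} : Set L)) _
  haveI := Algebra.FormallyUnramified.isSeparable K F
  have := Algebra.IsSeparable.isSeparable K (⟨x, IntermediateField.mem_adjoin_simple_self K x⟩ : F)
  rw [IsSeparable, IntermediateField.minpoly_eq] at this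
  exact this

/-- Every element of a weakly étale algebra over a field is killed by a separable polynomial. -/
theorem exists_separable_of_weaklyEtale {B : Type v} [CommRing B] [Algebra K B]
    [Algebra.WeaklyEtale K B] (x : B) : ∃ P : K[X], P.Separable ∧ aeval x P = 0 := by
  classical
  have hB : IsVNR B := vnr_of_weaklyEtale_field (K := K)
  let S : Set K[X] := {Q | Q.Monic ∧ Irreducible Q ∧ Q.Separable}
  choose t ht using fun Q : K[X] => hB (aeval x Q)
  let c : K[X] → B := fun Q => 1 - aeval x Q * t Q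
  have htop : Ideal.span (c '' S) = ⊤ := by
    by_contra hne
    obtain ⟨q, hq, hle⟩ := Ideal.exists_le_maximal _ hne
    haveI := hq
    letI : Field (B ⧸ q) := Ideal.Quotient.field q
    haveI := weaklyEtale_quotient (K := K) q
    have hs : IsSeparable K (Ideal.Quotient.mk q x) := isSeparable_of_weaklyEtale_field _
    let Q := minpoly K (Ideal.Quotient.mk q x)
    have hint := hs.isIntegral
    have hQ : Q ∈ S := ⟨minpoly.monic hint, minpoly.irreducible hint, hs⟩
    have hQq : aeval x Q ∈ q := by
      rw [← Ideal.Quotient.eq_zero_iff_mem]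
      have h : aeval ((Ideal.Quotient.mkₐ K q) x) Q = Ideal.Quotient.mkₐ K q (aeval x Q) :=
        aeval_algHom_apply _ _ _
      exact (h.symm.trans (minpoly.aeval K _) : _)
    have h1 : c Q ∈ q := hle (Ideal.subset_span ⟨Q, hQ, rfl⟩)
    have h2 : (1 : B) ∈ q := by
      have := q.add_mem h1 (q.mul_mem_right (t Q) hQq)
      simpa [c] using this
    exact hq.ne_top ((Ideal.eq_top_iff_one q).2 h2)
  obtain ⟨T, hT, h1⟩ := Submodule.mem_span_finite_of_mem_span
    (show (1 : B) ∈ Submodule.span B (c '' S) by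
      have : (1 : B) ∈ Ideal.span (c '' S) := htop.symm ▸ Submodule.mem_top
      exact this)
  obtain ⟨T', hT', rfl⟩ := Finset.subset_set_image_iff.1 hT
  refine ⟨∏ Q ∈ T', Q, separable_prod' (fun P hP Q hQ hne => ?_) (fun Q hQ => (hT' hQ).2.2), ?_⟩
  · refine (hT' hP).2.1.coprime_iff_not_dvd.2 fun hdvd => hne ?_
    exact eq_of_monic_of_associated (hT' hP).1 (hT' hQ).1
      ((hT' hP).2.1.associated_of_dvd (hT' hQ).2.1 hdvd)
  · have hann : Ideal.span ((T'.image c : Finset B) : Set B) ≤
        LinearMap.ker (LinearMap.mulLeft B (aeval x (∏ Q ∈ T', Q))) := by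
      rw [Finset.coe_image, Ideal.span_le]
      rintro _ ⟨Q, hQ, rfl⟩
      obtain ⟨R, hR⟩ := Finset.dvd_prod_of_mem (fun Q : K[X] => Q) hQ
      simp only [SetLike.mem_coe, LinearMap.mem_ker, LinearMap.mulLeft_apply, hR, map_mul, c]
      linear_combination (-(aeval x R)) * ht Q
    simpa using hann h1

variable {S : Type v} [CommRing S] [Algebra K S]

/-- An algebra over a field generated by elements killed by separable polynomials is weakly
étale. -/
theorem weaklyEtale_of_adjoin {s : Set S} (hs : Algebra.adjoin K s = ⊤)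
    (h : ∀ x ∈ s, ∃ P : K[X], P.Separable ∧ aeval x P = 0) : Algebra.WeaklyEtale K S := by
  haveI := (isVNR_of_field K).flat (A := K) S
  refine { flat_lmul' := lmul_flat_of_pure ?_ }
  let J : Ideal (S ⊗[K] S) := RingHom.ker (Algebra.TensorProduct.lmul' K (S := S))
  let G : Ideal (S ⊗[K] S) :=
    { carrier := {z | ∃ e ∈ J, e * z = z}
      zero_mem' := ⟨0, J.zero_mem, mul_zero _⟩
      smul_mem' := fun c z ⟨e, he, h⟩ => ⟨e, he, by
        show e * (c * z) = c * z
        rw [mul_left_comm, h]⟩
      add_mem' := fun {a b} ⟨e, he, hea⟩ ⟨f, hf, hfb⟩ =>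
        ⟨e + f - e * f, J.sub_mem (J.add_mem he hf) (J.mul_mem_right f he), by
          linear_combination (1 - f) * hea + (1 - e) * hfb⟩ }
  have hgen : ∀ x : S, (1 : S) ⊗ₜ[K] x - x ⊗ₜ 1 ∈ G := by
    intro x
    have hx : x ∈ Algebra.adjoin K s := hs ▸ Algebra.mem_top
    induction hx using Algebra.adjoin_induction with
    | mem x hx =>
      obtain ⟨P, ⟨a, b, hab⟩, hP⟩ := h x hx
      let z : S ⊗[K] S := x ⊗ₜ 1 - 1 ⊗ₜ x
      let y : S ⊗[K] S := 1 ⊗ₜ x
      obtain ⟨k, hk⟩ := binomExpansion (P.map (algebraMap K (S ⊗[K] S))) y z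
      have h0 : (P.map (algebraMap K (S ⊗[K] S))).eval (y + z) = 0 := by
        rw [eval_map_algebraMap, show y + z = Algebra.TensorProduct.includeLeft (R := K) (S := K) x
          by simp [y, z], aeval_algHom_apply, hP, map_zero]
      have h0' : (P.map (algebraMap K (S ⊗[K] S))).eval y = 0 := by
        rw [eval_map_algebraMap, show y = Algebra.TensorProduct.includeRight (R := K) x from rfl,
          aeval_algHom_apply, hP, map_zero]
      rw [derivative_map] at hk
      let u := aeval y b * ((P.derivative.map (algebraMap K (S ⊗[K] S))).eval y + k * z)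
      have hu : u * z = 0 := by
        simp only [u]
        rw [h0, h0'] at hk
        linear_combination -(aeval y b) * hk
      have hlu : Algebra.TensorProduct.lmul' K (S := S) u = 1 := by
        have hb : aeval x b * aeval x P.derivative = 1 := by
          have := congrArg (aeval x) hab
          simpa [hP] using this
        simp only [u, eval_map_algebraMap, map_mul, map_add, ← aeval_algHom_apply]
        simp [y, z, hb]
      refine ⟨1 - u, by simp [J, RingHom.mem_ker, hlu], ?_⟩
      show (1 - u) * (1 ⊗ₜ x - x ⊗ₜ 1) = _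
      linear_combination hu
    | algebraMap r =>
      rw [show (1 : S) ⊗ₜ[K] algebraMap K S r - algebraMap K S r ⊗ₜ (1 : S) = 0 by
        rw [Algebra.algebraMap_eq_smul_one, smul_tmul, sub_self]]
      exact G.zero_mem
    | add p q _ _ hp hq =>
      rw [tmul_add, add_tmul, add_sub_add_comm]
      exact G.add_mem hp hq
    | mul p q _ _ hp hq =>
      rw [show (1 : S) ⊗ₜ[K] (p * q) - (p * q) ⊗ₜ (1 : S) =
          ((1 : S) ⊗ₜ p) * (1 ⊗ₜ q - q ⊗ₜ 1) + (q ⊗ₜ (1 : S)) * (1 ⊗ₜ p - p ⊗ₜ 1) by
        simp only [mul_sub, Algebra.TensorProduct.tmul_mul_tmul, one_mul, mul_one, mul_comm p q]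
        abel]
      exact G.add_mem (G.mul_mem_left _ hq) (G.mul_mem_left _ hp)
  have hJG : J ≤ G := by
    show KaehlerDifferential.ideal K S ≤ G
    rw [← KaehlerDifferential.span_range_eq_ideal, Ideal.span_le]
    rintro _ ⟨x, rfl⟩
    exact hgen x
  refine Ideal.Pure.of_inf_eq_mul _ fun J' _ => le_antisymm (fun z hz => ?_) Ideal.mul_le_inf
  obtain ⟨e, he, hez⟩ := hJG hz.1
  rw [← hez]
  exact Ideal.mul_mem_mul he hz.2

theorem weaklyEtale_adjoin {s : Set S} (h : ∀ x ∈ s, ∃ P : K[X], P.Separable ∧ aeval x P = 0) :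
    Algebra.WeaklyEtale K (Algebra.adjoin K s) :=
  weaklyEtale_of_adjoin (Algebra.adjoin_adjoin_coe_preimage (R := K) (s := s)) fun x hx => by
    obtain ⟨P, hP, hPx⟩ := h (x : S) hx
    refine ⟨P, hP, Subtype.ext ?_⟩
    rw [← Subalgebra.coe_val (Algebra.adjoin K s), ← aeval_algHom_apply]
    simpa using hPx

theorem exists_separable_of_mem_adjoin {s : Set S}
    (h : ∀ x ∈ s, ∃ P : K[X], P.Separable ∧ aeval x P = 0) {x : S} (hx : x ∈ Algebra.adjoin K s) :
    ∃ P : K[X], P.Separable ∧ aeval x P = 0 := by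
  haveI := weaklyEtale_adjoin h
  obtain ⟨P, hP, hPx⟩ :=
    exists_separable_of_weaklyEtale (K := K) (⟨x, hx⟩ : Algebra.adjoin K s)
  refine ⟨P, hP, ?_⟩
  have := congrArg (Algebra.adjoin K s).val hPx
  rw [← aeval_algHom_apply, map_zero] at this
  exact this

theorem weaklyEtale_iff_forall_separable :
    Algebra.WeaklyEtale K S ↔ ∀ x : S, ∃ P : K[X], P.Separable ∧ aeval x P = 0 :=
  ⟨fun _ => exists_separable_of_weaklyEtale,
    fun h => weaklyEtale_of_adjoin (Algebra.adjoin_univ K S) fun x _ => h x⟩

theorem weaklyEtale_subalgebra_iff (T : Subalgebra K S) :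
    Algebra.WeaklyEtale K T ↔ ∀ x ∈ T, ∃ P : K[X], P.Separable ∧ aeval x P = 0 := by
  rw [weaklyEtale_iff_forall_separable]
  constructor
  · intro h x hx
    obtain ⟨P, hP, hPx⟩ := h ⟨x, hx⟩
    refine ⟨P, hP, ?_⟩
    have := congrArg T.val hPx
    rw [← aeval_algHom_apply, map_zero] at this
    exact this
  · intro h x
    obtain ⟨P, hP, hPx⟩ := h x x.2
    refine ⟨P, hP, Subtype.ext ?_⟩
    rw [← Subalgebra.coe_val T, ← aeval_algHom_apply]
    simpa using hPx

end Field

end Groth.Agent.WEtaleH7
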